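import Mathlib.GroupTheory.Solvable
import Mathlib.GroupTheory.Subgroup.Simple
import Mathlib.GroupTheory.QuotientGroup.Basic

/-!
Iwasawa's criterion in a form suited to actions on vectors taken up to scalars:
`s` is an invariant equivalence relation on `X` ("same point"), and the action on `X / s` is primitive.
-/

set_option autoImplicit false

namespace CfsgLib.Classical

/-- `act` is primitive modulo `s`: an invariant equivalence relation coarser than `s` is `s` or everything. -/
def PrimitiveMod {G X : Type*} [Group G] (act : G →* Equiv.Perm X) (s : Setoid X) : Prop :=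
  ∀ r : Setoid X, (∀ x y, s x y → r x y) → (∀ (g : G) (x y : X), r x y → r (act g x) (act g y)) →
    (∃ x y, r x y ∧ ¬ s x y) → ∀ x y, r x y

theorem iwasawa_normal {G X : Type*} [Group G] (act : G →* Equiv.Perm X) (s : Setoid X)
    (hs : ∀ (g : G) (x y : X), s x y → s (act g x) (act g y))
    (hprim : PrimitiveMod act s) (T : X → Subgroup G) (a : X)
    (hTs : ∀ x y, s x y → T x = T y)
    (hconj : ∀ (g : G) (x : X), ∀ t ∈ T x, g * t * g⁻¹ ∈ T (act g x))
    (hgen : iSup T = ⊤) (hsol : Group.IsSolvable (T a)) (hperf : commutator G = ⊤)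
    (N : Subgroup G) (hN : N.Normal) :
    (∀ n ∈ N, ∀ x, s (act n x) x) ∨ N = ⊤ := by
  by_cases h : ∀ n ∈ N, ∀ x, s (act n x) x
  · exact Or.inl h
  · right
    push Not at h
    obtain ⟨n₀, hn₀, x₀, hx₀⟩ := h
    let r : Setoid X :=
      { r := fun x y => ∃ n ∈ N, s (act n x) y
        iseqv :=
          { refl := fun x => ⟨1, N.one_mem, by simp⟩
            symm := by
              rintro x y ⟨n, hn, hxy⟩
              refine ⟨n⁻¹, N.inv_mem hn, ?_⟩
              have h1 := hs n⁻¹ _ _ hxy
              rw [← Equiv.Perm.mul_apply, ← map_mul, inv_mul_cancel, map_one] at h1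
              exact s.symm h1
            trans := by
              rintro x y z ⟨n, hn, hxy⟩ ⟨m, hm, hyz⟩
              refine ⟨m * n, N.mul_mem hm hn, ?_⟩
              rw [map_mul]
              exact s.trans (hs m _ _ hxy) hyz } }
    have hall : ∀ x y, r x y := by
      refine hprim r (fun x y hxy => ⟨1, N.one_mem, by simpa using hxy⟩) ?_ ⟨x₀, act n₀ x₀, ?_, ?_⟩
      · rintro g x y ⟨n, hn, hxy⟩
        refine ⟨g * n * g⁻¹, hN.conj_mem n hn g, ?_⟩
        have h1 := hs g _ _ hxy
        simpa [map_mul, Equiv.Perm.mul_apply] using h1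
      · exact ⟨n₀, hn₀, s.refl _⟩
      · exact fun h' => hx₀ (s.symm h')
    have hsup : N ⊔ T a = ⊤ := by
      rw [eq_top_iff, ← hgen, iSup_le_iff]
      intro x t ht
      obtain ⟨n, hn, hnx⟩ := hall x a
      have h1 : n * t * n⁻¹ ∈ T a := by
        rw [← hTs _ _ hnx]
        exact hconj n x t ht
      have h2 : n⁻¹ * (n * t * n⁻¹) * n ∈ N ⊔ T a :=
        (N ⊔ T a).mul_mem ((N ⊔ T a).mul_mem (Subgroup.mem_sup_left (N.inv_mem hn))
          (Subgroup.mem_sup_right h1)) (Subgroup.mem_sup_left hn)
      simpa [mul_assoc] using h2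
    have hsurj : Function.Surjective ((QuotientGroup.mk' N).comp (T a).subtype) := by
      rw [← MonoidHom.range_eq_top, MonoidHom.range_comp, Subgroup.range_subtype]
      rw [eq_top_iff, ← Subgroup.map_top_of_surjective _ (QuotientGroup.mk'_surjective N), ← hsup,
        Subgroup.map_sup]
      refine sup_le ?_ le_rfl
      rw [QuotientGroup.map_mk'_self]
      exact bot_le
    have := hsol
    have : Group.IsSolvable (G ⧸ N) := Group.isSolvable_of_surjective hsurj
    by_contra hne
    have : Nontrivial (G ⧸ N) := QuotientGroup.nontrivial_iff.mpr hne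
    have hlt := Group.IsSolvable.commutator_lt_top_of_nontrivial (G ⧸ N)
    rw [commutator_def, ← Subgroup.map_top_of_surjective _ (QuotientGroup.mk'_surjective N),
      ← Subgroup.map_commutator, ← commutator_def, hperf] at hlt
    exact lt_irrefl _ hlt

end CfsgLib.Classical
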